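import Groth.Agent.RegularLocal.Basic
import Mathlib.Algebra.Category.ModuleCat.ProjectiveDimension
import Mathlib.Algebra.Category.ModuleCat.Ext.DimensionShifting
import Mathlib.Algebra.Category.ModuleCat.EnoughInjectives
import Mathlib.Algebra.Module.Injective
import Mathlib.RingTheory.Regular.Free
import Mathlib.RingTheory.LocalRing.Module
import Mathlib.RingTheory.Flat.EquationalCriterion
import Mathlib.RingTheory.Flat.FaithfullyFlat.Algebra
import Mathlib.RingTheory.TensorProduct.Quotient
import Mathlib.RingTheory.Ideal.AssociatedPrime.Basic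
import Mathlib.RingTheory.Ideal.AssociatedPrime.Finiteness
import Mathlib.RingTheory.Localization.AtPrime.Basic
import Mathlib.LinearAlgebra.Dual.Lemmas

/-!
Global dimension of regular local rings (Serre): finite global dimension, the converse,
behaviour of projective dimension under change of rings and flat base change.
-/

set_option autoImplicit false
universe u

open CategoryTheory Abelian IsLocalRing TensorProduct
open scoped Pointwise

namespace Groth.Agent.RegularLocal.GlobalDim

open Groth.Agent.RegularLocal.Basic

variable {R : Type u} [CommRing R]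

theorem pdLT_syzygy {F M : Type u} [AddCommGroup F] [Module R F] [AddCommGroup M] [Module R M]
    (f : F →ₗ[R] M) (hf : Function.Surjective f) [Module.Projective R F] (n : ℕ) :
    HasProjectiveDimensionLT (ModuleCat.of R M) (n + 2) ↔
      HasProjectiveDimensionLT (ModuleCat.of R (LinearMap.ker f)) (n + 1) := by
  have hP : Projective (ModuleCat.of R F) := (IsProjective.iff_projective F).1 inferInstance
  exact (LinearMap.shortExact_shortComplexKer hf).hasProjectiveDimensionLT_X₃_iff n hP

theorem pdLT_one {M : Type u} [AddCommGroup M] [Module R M] :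
    HasProjectiveDimensionLT (ModuleCat.of R M) 1 ↔ Module.Projective R M := by
  rw [← projective_iff_hasProjectiveDimensionLT_one, ← IsProjective.iff_projective]

theorem pdLT_congr {M N : Type u} [AddCommGroup M] [Module R M] [AddCommGroup N] [Module R N]
    (e : M ≃ₗ[R] N) {n : ℕ} (h : HasProjectiveDimensionLT (ModuleCat.of R M) n) :
    HasProjectiveDimensionLT (ModuleCat.of R N) n :=
  hasProjectiveDimensionLT_of_iso e.toModuleIso n

/-- Change of rings along a nonzerodivisor. -/
theorem pdLT_quotSMulTop [IsLocalRing R] [IsNoetherianRing R] {x : R} (hxm : x ∈ maximalIdeal R)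
    (hx : IsSMulRegular R x) (n : ℕ) :
    ∀ (N : Type u) [AddCommGroup N] [Module R N] [Module.Finite R N], IsSMulRegular N x →
      (HasProjectiveDimensionLT (ModuleCat.of R N) (n + 1) ↔
        HasProjectiveDimensionLT (ModuleCat.of (R ⧸ Ideal.span {x}) (QuotSMulTop x N)) (n + 1)) := by
  haveI : IsLocalRing (R ⧸ Ideal.span {x}) := isLocalRing_quotient
    (ne_top_of_le_maximalIdeal ((Ideal.span_singleton_le_iff_mem _).2 hxm))
  induction n with
  | zero =>
    intro N _ _ _ hN
    haveI : Module.Finite (R ⧸ Ideal.span {x}) (QuotSMulTop x N) :=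
      Module.Finite.of_restrictScalars_finite R _ _
    haveI : Module.FinitePresentation R N := Module.finitePresentation_of_finite R N
    rw [pdLT_one, pdLT_one]
    have key := Module.free_quotSMulTop_iff_free R N (maximalIdeal_le_jacobson ⊥ hxm) hN
    constructor
    · intro h
      haveI : Module.Free R N := Module.free_of_flat_of_isLocalRing
      infer_instance
    · intro h
      haveI : Module.Free R N := key.1 Module.free_of_flat_of_isLocalRing
      infer_instance
  | succ n ih =>
    intro N _ _ _ hN
    obtain ⟨k, f, hf⟩ := Module.Finite.exists_fin' R N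
    let K := LinearMap.ker f
    haveI : Module.Finite R K := Module.Finite.iff_fg.2 (IsNoetherian.noetherian _)
    have hF : IsSMulRegular (Fin k → R) x := IsSMulRegular.pi fun _ => hx
    have hK : IsSMulRegular K x := fun a b hab => Subtype.ext (hF (congrArg Subtype.val hab))
    have hsurj : Function.Surjective (algebraMap R (R ⧸ Ideal.span {x})) :=
      Ideal.Quotient.mk_surjective
    let g := (QuotSMulTop.map x f).extendScalarsOfSurjective hsurj
    let h := (QuotSMulTop.map x K.subtype).extendScalarsOfSurjective hsurj
    have hinj : Function.Injective h := by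
      rw [← LinearMap.ker_eq_bot, LinearMap.ker_eq_bot']
      intro a ha
      obtain ⟨a, rfl⟩ := Submodule.Quotient.mk_surjective _ a
      change Submodule.Quotient.mk (p := x • (⊤ : Submodule R (Fin k → R))) (a : Fin k → R) = 0 at ha
      rw [Submodule.Quotient.mk_eq_zero, Submodule.mem_smul_pointwise_iff_exists] at ha
      obtain ⟨v, -, hv⟩ := ha
      have hvK : v ∈ K := by
        apply hN
        show x • f v = x • 0
        rw [← map_smul, hv, smul_zero]
        exact a.2
      rw [Submodule.Quotient.mk_eq_zero, Submodule.mem_smul_pointwise_iff_exists]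
      exact ⟨⟨v, hvK⟩, trivial, Subtype.ext hv⟩
    have hrange : LinearMap.range h = LinearMap.ker g := by
      have hex : Function.Exact h g :=
        QuotSMulTop.map_exact x (LinearMap.exact_subtype_ker_map f) hf
      exact hex.linearMap_ker_eq.symm
    let e : QuotSMulTop x K ≃ₗ[R ⧸ Ideal.span {x}] LinearMap.ker g :=
      (LinearEquiv.ofInjective h hinj).trans (LinearEquiv.ofEq _ _ hrange)
    rw [pdLT_syzygy f hf, ih K hK,
      pdLT_syzygy (R := R ⧸ Ideal.span {x}) g (QuotSMulTop.map_surjective x hf)]
    exact ⟨pdLT_congr e, pdLT_congr e.symm⟩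

/-- Finite modules over a regular local ring of dimension `d` have projective dimension `≤ d`. -/
theorem pdLT_of_finite (d : ℕ) : ∀ (R : Type u) [CommRing R] [IsRegularLocalRing R]
    (M : Type u) [AddCommGroup M] [Module R M] [Module.Finite R M],
    (maximalIdeal R).spanFinrank = d → HasProjectiveDimensionLT (ModuleCat.of R M) (d + 1) := by
  induction d with
  | zero =>
    intro R _ _ M _ _ _ hd
    have hbot : maximalIdeal R = ⊥ :=
      (Submodule.spanFinrank_eq_zero_iff_eq_bot (maximalIdeal R).fg_of_isNoetherianRing).1 hd
    letI := (isField_iff_maximalIdeal_eq.2 hbot).toField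
    exact pdLT_one.2 Module.Projective.of_free
  | succ d ih =>
    intro R _ _ M _ _ _ hd
    have hne : maximalIdeal R ≠ ⊥ := fun h => by
      rw [h, Submodule.spanFinrank_bot] at hd; omega
    have hsq : ¬ maximalIdeal R ≤ maximalIdeal R ^ 2 := by
      intro h
      refine hne (Submodule.eq_bot_of_le_smul_of_le_jacobson_bot (maximalIdeal R) _
        (maximalIdeal R).fg_of_isNoetherianRing ?_ (maximalIdeal_le_jacobson ⊥))
      rwa [smul_eq_mul, ← pow_two]
    obtain ⟨x, hx, hx2⟩ := SetLike.not_le_iff_exists.1 hsq
    haveI : IsDomain R := isDomain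
    have hx0 : x ≠ 0 := fun h => hx2 (h ▸ zero_mem _)
    have hreg : IsSMulRegular R x := fun a b hab => mul_left_cancel₀ hx0 hab
    obtain ⟨l, hl, hgen⟩ := exists_generators_cons hx hx2
    obtain ⟨hR', hdim⟩ := quotient_of_generators [x] l hgen (by simpa [add_comm] using hl.le)
    rw [Ideal.ofList_singleton] at hR' hdim
    haveI := hR'
    rw [← IsRegularLocalRing.spanFinrank_maximalIdeal] at hdim
    have hd' : (maximalIdeal (R ⧸ Ideal.span {x})).spanFinrank = d := by
      have : (maximalIdeal (R ⧸ Ideal.span {x})).spanFinrank = l.length := by exact_mod_cast hdim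
      omega
    obtain ⟨k, f, hf⟩ := Module.Finite.exists_fin' R M
    haveI : Module.Finite R (LinearMap.ker f) := Module.Finite.iff_fg.2 (IsNoetherian.noetherian _)
    have hF : IsSMulRegular (Fin k → R) x := IsSMulRegular.pi fun _ => hreg
    have hK : IsSMulRegular (LinearMap.ker f) x :=
      fun a b hab => Subtype.ext (hF (congrArg Subtype.val hab))
    haveI : Module.Finite (R ⧸ Ideal.span {x}) (QuotSMulTop x (LinearMap.ker f)) :=
      Module.Finite.of_restrictScalars_finite R _ _
    rw [pdLT_syzygy f hf d, pdLT_quotSMulTop hx hreg d _ hK]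
    exact ih (R ⧸ Ideal.span {x}) _ hd'

/-- Baer: vanishing of `Ext^{n+1}(L, N)` on finite `L` implies it on all modules. -/
theorem subsingleton_ext_of_finite (n : ℕ) : ∀ (N : ModuleCat.{u} R),
    (∀ (L : Type u) [AddCommGroup L] [Module R L] [Module.Finite R L],
      Subsingleton (Ext (ModuleCat.of R L) N (n + 1))) →
    ∀ M : ModuleCat.{u} R, Subsingleton (Ext M N (n + 1)) := by
  induction n with
  | zero =>
    intro N h M
    have hB : Module.Baer R N := by
      intro I g
      have hS : (I.mkQ.shortComplexKer).ShortExact :=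
        LinearMap.shortExact_shortComplexKer I.mkQ_surjective
      haveI := h (R ⧸ I)
      let g' : LinearMap.ker I.mkQ →ₗ[R] N :=
        g ∘ₗ (LinearEquiv.ofEq _ _ I.ker_mkQ).toLinearMap
      obtain ⟨G, hG⟩ := Ext.contravariant_sequence_exact₁ hS N (Ext.mk₀ (ModuleCat.ofHom g'))
        (add_zero 1) (Subsingleton.elim _ _)
      obtain ⟨G, rfl⟩ := (Ext.mk₀_bijective _ _).2 G
      rw [Ext.mk₀_comp_mk₀, (Ext.mk₀_bijective _ _).1.eq_iff] at hG
      refine ⟨G.hom, fun y hy => ?_⟩
      have := congr($(congrArg ModuleCat.Hom.hom hG) ⟨y, by rw [LinearMap.mem_ker]; exact (Ideal.Quotient.eq_zero_iff_mem).2 hy⟩)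
      simp [g', LinearMap.shortComplexKer] at this
      exact this.trans (congrArg g (Subtype.ext rfl))
    haveI : Module.Injective R N := hB.injective
    haveI : Injective N := by
      have := (Module.injective_iff_injective_object R N).1 inferInstance
      exact this
    exact ⟨fun a b => (Ext.eq_zero_of_injective a).trans (Ext.eq_zero_of_injective b).symm⟩
  | succ n ih =>
    intro N h M
    let ⟨p⟩ := EnoughInjectives.presentation N
    have hS : (ShortComplex.mk _ _ (Limits.cokernel.condition p.f)).ShortExact :=
      { exact := ShortComplex.exact_cokernel p.f }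
    have key : ∀ (L : Type u) [AddCommGroup L] [Module R L] [Module.Finite R L],
        Subsingleton (Ext (ModuleCat.of R L) (Limits.cokernel p.f) (n + 1)) := by
      intro L _ _ _
      refine ⟨fun a b => sub_eq_zero.1 ?_⟩
      haveI := h L
      obtain ⟨c, hc⟩ := Ext.covariant_sequence_exact₃ (ModuleCat.of R L) hS (a - b) (rfl : n + 1 + 1 = _)
        (Subsingleton.elim _ _)
      rw [← hc, Ext.eq_zero_of_injective c, Ext.zero_comp]
    have hM := ih _ key M
    refine ⟨fun a b => sub_eq_zero.1 ?_⟩
    obtain ⟨c, hc⟩ := Ext.covariant_sequence_exact₁ M hS (a - b) (Ext.eq_zero_of_injective _)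
      (rfl : n + 1 + 1 = _)
    rw [← hc, Subsingleton.elim c 0, Ext.zero_comp]

/-- A regular local ring has global dimension at most its dimension. -/
theorem pdLT [IsRegularLocalRing R] (M : Type u) [AddCommGroup M] [Module R M] :
    HasProjectiveDimensionLT (ModuleCat.of R M) ((maximalIdeal R).spanFinrank + 1) := by
  refine hasProjectiveDimensionLT_of_enoughInjectives _ _ fun Y => ?_
  refine subsingleton_ext_of_finite _ Y (fun L _ _ _ => ?_) _
  haveI := pdLT_of_finite _ R L rfl
  exact HasProjectiveDimensionLT.subsingleton _ _ _ le_rfl Y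

/-- A minimal free cover of a finite module over a local ring. -/
theorem exists_minimal_cover [IsLocalRing R] (M : Type u) [AddCommGroup M] [Module R M]
    [Module.Finite R M] :
    ∃ (k : ℕ) (f : (Fin k → R) →ₗ[R] M), Function.Surjective f ∧
      ∀ v, f v = 0 → ∀ i, v i ∈ maximalIdeal R := by
  classical
  obtain ⟨s, hs, hspan⟩ := Submodule.FG.exists_span_finset_card_eq_spanFinrank
    (Module.Finite.fg_top (R := R) (M := M))
  let e := s.equivFin
  let f := Fintype.linearCombination R fun i => (e.symm i : M)
  refine ⟨s.card, f, ?_, ?_⟩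
  · rw [← LinearMap.range_eq_top, Fintype.range_linearCombination, ← hspan]
    congr 1
    ext m
    exact ⟨fun ⟨i, hi⟩ => hi ▸ (e.symm i).2, fun hm => ⟨e ⟨m, hm⟩, by simp⟩⟩
  · intro v hv i
    by_contra hi
    rw [mem_maximalIdeal, mem_nonunits_iff, not_not] at hi
    have hmem : (e.symm i : M) ∈ Submodule.span R (s.erase (e.symm i) : Set M) := by
      rw [← Submodule.smul_mem_iff_of_isUnit _ hi]
      simp only [f, Fintype.linearCombination_apply] at hv
      rw [← Finset.add_sum_erase _ _ (Finset.mem_univ i), add_eq_zero_iff_eq_neg] at hv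
      rw [hv]
      refine neg_mem (Submodule.sum_mem _ fun j hj => Submodule.smul_mem _ _ (Submodule.subset_span ?_))
      simp only [Finset.mem_coe, Finset.mem_erase]
      exact ⟨fun h => (Finset.mem_erase.1 hj).1 (e.symm.injective (Subtype.ext h)), (e.symm j).2⟩
    have htop : Submodule.span R (s.erase (e.symm i) : Set M) = ⊤ := by
      rw [eq_top_iff, ← hspan, Submodule.span_le]
      intro m hm
      by_cases h : m = (e.symm i : M)
      · exact h ▸ hmem
      · exact Submodule.subset_span (Finset.mem_erase.2 ⟨h, hm⟩)
    have := Submodule.spanFinrank_span_le_ncard_of_finite (R := R)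
      (s.erase (e.symm i : M)).finite_toSet
    rw [htop, Set.ncard_coe_finset, ← hs, Finset.card_erase_of_mem (e.symm i).2] at this
    have : 0 < s.card := Finset.card_pos.2 ⟨_, (e.symm i).2⟩
    omega

/-- In depth zero, modules of finite projective dimension are free. -/
theorem free_of_pdLT_of_depth_zero [IsLocalRing R] [IsNoetherianRing R] {z : R} (hz : z ≠ 0)
    (hzm : ∀ a ∈ maximalIdeal R, a * z = 0) (n : ℕ) :
    ∀ (M : Type u) [AddCommGroup M] [Module R M] [Module.Finite R M],
      HasProjectiveDimensionLT (ModuleCat.of R M) (n + 1) → Module.Free R M := by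
  induction n with
  | zero =>
    intro M _ _ _ h
    haveI := pdLT_one.1 h
    exact Module.free_of_flat_of_isLocalRing
  | succ n ih =>
    intro M _ _ _ h
    obtain ⟨k, f, hf, hker⟩ := exists_minimal_cover (R := R) M
    haveI : Module.Finite R (LinearMap.ker f) := Module.Finite.iff_fg.2 (IsNoetherian.noetherian _)
    haveI := ih _ ((pdLT_syzygy f hf n).1 h)
    have hK : Subsingleton (LinearMap.ker f) := by
      let b := Module.Free.chooseBasis R (LinearMap.ker f)
      refine subsingleton_of_forall_eq 0 fun v => b.repr.injective ?_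
      ext j
      have h0 : z • b j = 0 := Subtype.ext <| funext fun i => by
        show z • (b j : Fin k → R) i = 0
        rw [smul_eq_mul, mul_comm]
        exact hzm _ (hker _ (LinearMap.mem_ker.1 (b j).2) i)
      have := congrArg (fun w => b.repr w j) h0
      simp at this
      exact absurd this hz
    have hinj : Function.Injective f := by
      rw [← LinearMap.ker_eq_bot, Submodule.eq_bot_iff]
      intro v hv
      exact congrArg Subtype.val (Subsingleton.elim (⟨v, hv⟩ : LinearMap.ker f) 0)
    exact Module.Free.of_equiv (LinearEquiv.ofBijective f ⟨hinj, hf⟩)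

/-- Serre: finite projective dimension of the residue field implies regularity. -/
theorem isRegularLocalRing_of_pdLT_aux (d : ℕ) : ∀ (R : Type u) [CommRing R] [IsLocalRing R]
    [IsNoetherianRing R] (n : ℕ),
    HasProjectiveDimensionLT (ModuleCat.of R (R ⧸ maximalIdeal R)) (n + 1) →
    (maximalIdeal R).spanFinrank = d → IsRegularLocalRing R := by
  induction d using Nat.strong_induction_on with
  | _ d ih =>
    intro R _ _ _ n h hd
    classical
    by_cases hbot : maximalIdeal R = ⊥
    · refine IsRegularLocalRing.of_spanFinrank_maximalIdeal_le R ?_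
      rw [hbot, Submodule.spanFinrank_bot]
      exact ringKrullDim_nonneg_of_nontrivial
    have hne : ∀ z : R, z ≠ 0 → ¬ ∀ a ∈ maximalIdeal R, a * z = 0 := by
      intro z hz hzm
      haveI := free_of_pdLT_of_depth_zero hz hzm n (R ⧸ maximalIdeal R) h
      apply hbot
      refine le_bot_iff.1 fun a ha => ?_
      let b := Module.Free.chooseBasis R (R ⧸ maximalIdeal R)
      obtain ⟨j⟩ := b.index_nonempty
      have h0 : a • b j = 0 := by
        obtain ⟨w, hw⟩ := Ideal.Quotient.mk_surjective (b j)
        rw [← hw, Algebra.smul_def, Ideal.Quotient.algebraMap_eq, ← map_mul,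
          Ideal.Quotient.eq_zero_iff_mem]
        exact Ideal.mul_mem_right _ _ ha
      have := congrArg (fun w => b.repr w j) h0
      simpa using this
    have hfin := associatedPrimes.finite R R
    have hsq : ¬ maximalIdeal R ≤ maximalIdeal R ^ 2 := by
      intro h
      refine hbot (Submodule.eq_bot_of_le_smul_of_le_jacobson_bot (maximalIdeal R) _
        (maximalIdeal R).fg_of_isNoetherianRing ?_ (maximalIdeal_le_jacobson ⊥))
      rwa [smul_eq_mul, ← pow_two]
    have hav : ¬ ((maximalIdeal R : Set R) ⊆
        ⋃ i ∈ (↑(insert (maximalIdeal R ^ 2) hfin.toFinset) : Set (Ideal R)), (i : Set R)) := by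
      rw [Ideal.subset_union_prime (f := fun i : Ideal R => i) (maximalIdeal R ^ 2)
        (maximalIdeal R ^ 2)]
      · rintro ⟨q, hq, hle⟩
        rcases Finset.mem_insert.1 hq with rfl | hq
        · exact hsq hle
        · rw [Set.Finite.mem_toFinset] at hq
          obtain ⟨hqp, z, rfl⟩ := isAssociatedPrime_iff.1 hq
          refine hne z (fun h0 => hqp.ne_top ((Ideal.eq_top_iff_one _).2 ?_)) fun a ha => ?_
          · rw [Submodule.mem_colon_singleton, h0, smul_zero]; exact zero_mem _
          · exact Submodule.mem_colon_singleton.1 (hle ha)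
      · intro i hi h1 _
        exact IsAssociatedPrime.isPrime
          ((Set.Finite.mem_toFinset _).1 ((Finset.mem_insert.1 hi).resolve_left h1))
    obtain ⟨x, hx, hxu⟩ := Set.not_subset.1 hav
    simp only [Finset.coe_insert, Set.Finite.coe_toFinset, Set.biUnion_insert, Set.mem_union,
      not_or] at hxu
    have hx2 : x ∉ maximalIdeal R ^ 2 := hxu.1
    have hnzd : x ∈ nonZeroDivisors R := by
      have := hxu.2
      rw [biUnion_associatedPrimes_eq_compl_nonZeroDivisors] at this
      simpa using this
    have hreg : IsSMulRegular R x := fun a b hab =>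
      (mul_cancel_left_mem_nonZeroDivisors hnzd).1 hab
    have hregm : IsSMulRegular (maximalIdeal R) x :=
      fun a b hab => Subtype.ext (hreg (congrArg Subtype.val hab))
    haveI : IsLocalRing (R ⧸ Ideal.span {x}) := isLocalRing_quotient
      (ne_top_of_le_maximalIdeal ((Ideal.span_singleton_le_iff_mem _).2 hx))
    haveI : Module.Finite R (maximalIdeal R) := Module.Finite.iff_fg.2 (IsNoetherian.noetherian _)
    -- the maximal ideal has finite projective dimension
    have hm : HasProjectiveDimensionLT (ModuleCat.of R (maximalIdeal R)) (n + 1) := by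
      haveI := h
      have h2 : HasProjectiveDimensionLT (ModuleCat.of R (R ⧸ maximalIdeal R)) (n + 2) :=
        hasProjectiveDimensionLT_of_ge _ (n + 1) (n + 2) (by omega)
      exact pdLT_congr (LinearEquiv.ofEq _ _ (maximalIdeal R).ker_mkQ)
        ((pdLT_syzygy (maximalIdeal R).mkQ (maximalIdeal R).mkQ_surjective n).1 h2)
    rw [pdLT_quotSMulTop hx hreg n _ hregm] at hm
    -- the residue field is a direct summand of `m / x m`
    let xm : maximalIdeal R := ⟨x, hx⟩
    obtain ⟨ψ, hψ⟩ := Module.Projective.exists_dual_eq_one (ResidueField R)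
      (x := ((maximalIdeal R).toCotangent xm : CotangentSpace R))
      (fun h0 => hx2 ((Ideal.toCotangent_eq_zero _ _).1 h0))
    let θ : ResidueField R →ₗ[R]
        (R ⧸ Ideal.span {x}) ⧸ maximalIdeal (R ⧸ Ideal.span {x}) :=
      Submodule.liftQ (maximalIdeal R)
        (((maximalIdeal (R ⧸ Ideal.span {x})).mkQ.restrictScalars R) ∘ₗ
          Algebra.linearMap R (R ⧸ Ideal.span {x})) (fun a ha => by
            rw [LinearMap.mem_ker]
            show Submodule.Quotient.mk _ = 0
            rw [Submodule.Quotient.mk_eq_zero, ← map_maximalIdeal_quotient]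
            exact Ideal.mem_map_of_mem _ ha)
    let φ : maximalIdeal R →ₗ[R] (R ⧸ Ideal.span {x}) ⧸ maximalIdeal (R ⧸ Ideal.span {x}) :=
      θ ∘ₗ ψ.restrictScalars R ∘ₗ (maximalIdeal R).toCotangent
    have hφx : φ xm = Submodule.Quotient.mk 1 := by
      show θ (ψ _) = _
      rw [hψ]
      show Submodule.Quotient.mk (algebraMap R (R ⧸ Ideal.span {x}) 1) = _
      rw [map_one]
    have hkill : x • (⊤ : Submodule R (maximalIdeal R)) ≤ LinearMap.ker φ := by
      rintro a ha
      obtain ⟨b, -, rfl⟩ := (Submodule.mem_smul_pointwise_iff_exists _ _ _).1 ha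
      rw [LinearMap.mem_ker, map_smul]
      generalize φ b = c
      obtain ⟨c, rfl⟩ := Submodule.Quotient.mk_surjective _ c
      rw [← Submodule.Quotient.mk_smul, Submodule.Quotient.mk_eq_zero, Algebra.smul_def,
        Ideal.Quotient.algebraMap_eq, Ideal.Quotient.mk_singleton_self, zero_mul]
      exact zero_mem _
    have hsurj : Function.Surjective (algebraMap R (R ⧸ Ideal.span {x})) :=
      Ideal.Quotient.mk_surjective
    let r : QuotSMulTop x (maximalIdeal R) →ₗ[R ⧸ Ideal.span {x}]
        (R ⧸ Ideal.span {x}) ⧸ maximalIdeal (R ⧸ Ideal.span {x}) :=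
      (Submodule.liftQ _ φ hkill).extendScalarsOfSurjective hsurj
    let i : (R ⧸ Ideal.span {x}) ⧸ maximalIdeal (R ⧸ Ideal.span {x}) →ₗ[R ⧸ Ideal.span {x}]
        QuotSMulTop x (maximalIdeal R) :=
      Submodule.liftQ _ (LinearMap.toSpanSingleton _ _ (Submodule.Quotient.mk xm)) (fun a ha => by
        rw [← map_maximalIdeal_quotient] at ha
        obtain ⟨b, hb, rfl⟩ := (Ideal.mem_map_iff_of_surjective _ Ideal.Quotient.mk_surjective).1 ha
        rw [LinearMap.mem_ker, LinearMap.toSpanSingleton_apply]
        show Submodule.Quotient.mk (b • xm) = 0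
        rw [Submodule.Quotient.mk_eq_zero, show b • xm = x • (⟨b, hb⟩ : maximalIdeal R) from
          Subtype.ext (mul_comm b x)]
        exact Submodule.smul_mem_pointwise_smul _ _ _ trivial)
    have hri : r ∘ₗ i = LinearMap.id := by
      apply Submodule.linearMap_qext
      apply LinearMap.ext_ring
      show r (i (Submodule.Quotient.mk 1)) = Submodule.Quotient.mk 1
      have : i (Submodule.Quotient.mk 1) = Submodule.Quotient.mk xm := by
        show LinearMap.toSpanSingleton (R ⧸ Ideal.span {x}) (QuotSMulTop x (maximalIdeal R))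
          (Submodule.Quotient.mk (p := x • (⊤ : Submodule R (maximalIdeal R))) xm) 1 = _
        rw [LinearMap.toSpanSingleton_apply, one_smul]
      rw [this]
      exact hφx
    have hk : HasProjectiveDimensionLT (ModuleCat.of (R ⧸ Ideal.span {x})
        ((R ⧸ Ideal.span {x}) ⧸ maximalIdeal (R ⧸ Ideal.span {x}))) (n + 1) :=
      (Retract.mk (ModuleCat.ofHom i) (ModuleCat.ofHom r)
        (ModuleCat.hom_ext hri)).hasProjectiveDimensionLT (n + 1)
    obtain ⟨l, hl, hgen⟩ := exists_generators_cons hx hx2
    have hlt : (maximalIdeal (R ⧸ Ideal.span {x})).spanFinrank < d := by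
      have : maximalIdeal (R ⧸ Ideal.span {x}) =
          Ideal.ofList (l.map (Ideal.Quotient.mk (Ideal.span {x}))) := by
        rw [← map_maximalIdeal_quotient, ← hgen, Ideal.ofList_cons, Ideal.map_sup,
          Ideal.map_quotient_self, bot_sup_eq, Ideal.map_ofList]
      rw [this]
      refine lt_of_le_of_lt (spanFinrank_ofList_le _) ?_
      simp
      omega
    haveI := ih _ hlt (R ⧸ Ideal.span {x}) n hk rfl
    exact of_quotient_singleton hx hnzd

theorem isRegularLocalRing_of_pdLT [IsLocalRing R] [IsNoetherianRing R] (n : ℕ)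
    (h : HasProjectiveDimensionLT (ModuleCat.of R (ResidueField R)) n) : IsRegularLocalRing R := by
  haveI := h
  exact isRegularLocalRing_of_pdLT_aux _ R n
    (hasProjectiveDimensionLT_of_ge (ModuleCat.of R (ResidueField R)) n (n + 1) (by omega)) rfl

section BaseChange

variable (S : Type u) [CommRing S] [Algebra R S]

/-- Flat base change does not increase projective dimension; faithfully flat base change reflects it. -/
theorem pdLT_baseChange [IsNoetherianRing R] [Module.Flat R S] (n : ℕ) :
    ∀ (M : Type u) [AddCommGroup M] [Module R M] [Module.Finite R M],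
      (HasProjectiveDimensionLT (ModuleCat.of R M) (n + 1) →
        HasProjectiveDimensionLT (ModuleCat.of S (S ⊗[R] M)) (n + 1)) ∧
      (Module.FaithfullyFlat R S →
        HasProjectiveDimensionLT (ModuleCat.of S (S ⊗[R] M)) (n + 1) →
        HasProjectiveDimensionLT (ModuleCat.of R M) (n + 1)) := by
  induction n with
  | zero =>
    intro M _ _ _
    rw [pdLT_one, pdLT_one]
    refine ⟨fun _ => inferInstance, fun _ _ => ?_⟩
    haveI : Module.Flat R M := Module.Flat.of_flat_tensorProduct R M S
    haveI : Module.FinitePresentation R M := Module.finitePresentation_of_finite R M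
    exact Module.Flat.projective_of_finitePresentation
  | succ n ih =>
    intro M _ _ _
    obtain ⟨k, f, hf⟩ := Module.Finite.exists_fin' R M
    haveI : Module.Finite R (LinearMap.ker f) := Module.Finite.iff_fg.2 (IsNoetherian.noetherian _)
    let h := (LinearMap.ker f).subtype.baseChange S
    have hinj : Function.Injective h :=
      Module.Flat.lTensor_preserves_injective_linearMap _ (LinearMap.ker f).injective_subtype
    have hrange : LinearMap.range h = LinearMap.ker (f.baseChange S) := by
      have hex : Function.Exact h (f.baseChange S) :=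
        lTensor_exact S (LinearMap.exact_subtype_ker_map f) hf
      exact hex.linearMap_ker_eq.symm
    let e : S ⊗[R] LinearMap.ker f ≃ₗ[S] LinearMap.ker (f.baseChange S) :=
      (LinearEquiv.ofInjective h hinj).trans (LinearEquiv.ofEq _ _ hrange)
    have hs : Function.Surjective (f.baseChange S) := LinearMap.lTensor_surjective S hf
    rw [pdLT_syzygy f hf, pdLT_syzygy (f.baseChange S) hs]
    exact ⟨fun h => pdLT_congr e ((ih _).1 h), fun hff h => (ih _).2 hff (pdLT_congr e.symm h)⟩

end BaseChange

/-- Localizations of regular local rings are regular. -/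
theorem isRegularLocalRing_localization [IsRegularLocalRing R] (p : Ideal R) [p.IsPrime] :
    IsRegularLocalRing (Localization.AtPrime p) := by
  haveI : IsNoetherianRing (Localization.AtPrime p) :=
    IsLocalization.isNoetherianRing p.primeCompl _ inferInstance
  haveI : Module.Flat R (Localization.AtPrime p) := IsLocalization.flat _ p.primeCompl
  have h := (pdLT_baseChange (R := R) (Localization.AtPrime p) (maximalIdeal R).spanFinrank
    (R ⧸ p)).1 (pdLT _)
  refine isRegularLocalRing_of_pdLT ((maximalIdeal R).spanFinrank + 1) (pdLT_congr ?_ h)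
  exact (Algebra.TensorProduct.quotIdealMapEquivTensorQuot (Localization.AtPrime p) p).symm.toLinearEquiv ≪≫ₗ
    Submodule.quotEquivOfEq _ _ Localization.AtPrime.map_eq_maximalIdeal

/-- Regularity descends along flat local homomorphisms. -/
theorem isRegularLocalRing_of_flat [IsLocalRing R] [IsNoetherianRing R] (S : Type u) [CommRing S]
    [IsRegularLocalRing S] [Algebra R S] [IsLocalHom (algebraMap R S)] [Module.Flat R S] :
    IsRegularLocalRing R :=
  isRegularLocalRing_of_pdLT ((maximalIdeal S).spanFinrank + 1)
    ((pdLT_baseChange (R := R) S (maximalIdeal S).spanFinrank (ResidueField R)).2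
      Module.FaithfullyFlat.of_flat_of_isLocalHom (pdLT _))

end Groth.Agent.RegularLocal.GlobalDim
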