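import Mathlib.RingTheory.RegularLocalRing.Defs
import Mathlib.RingTheory.KrullDimension.Regular
import Mathlib.RingTheory.KrullDimension.Field
import Mathlib.RingTheory.Regular.RegularSequence
import Mathlib.RingTheory.LocalRing.Quotient
import Mathlib.RingTheory.Nakayama

/-!
Basic theory of regular local rings: quotients by parts of regular systems of parameters,
the domain property, regular sequences and lifting regularity along a nonzerodivisor.
-/

set_option autoImplicit false
universe u

open IsLocalRing

namespace Groth.Agent.RegularLocal.Basic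

variable {R : Type u} [CommRing R]

theorem spanFinrank_ofList_le (l : List R) : (Ideal.ofList l).spanFinrank ≤ l.length := by
  classical
  refine le_trans (Submodule.spanFinrank_span_le_ncard_of_finite (List.finite_toSet l)) ?_
  have : { r | r ∈ l } = (l.toFinset : Set R) := by ext; simp
  rw [this, Set.ncard_coe_finset]
  exact l.toFinset_card_le

theorem exists_list_of_fg {I : Ideal R} (h : I.FG) :
    ∃ l : List R, l.length = I.spanFinrank ∧ Ideal.ofList l = I := by
  classical
  obtain ⟨s, hs, hspan⟩ := Submodule.FG.exists_span_finset_card_eq_spanFinrank h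
  refine ⟨s.toList, by simp [hs], ?_⟩
  rw [← hspan]
  show Ideal.span _ = Ideal.span _
  congr 1
  ext; simp

theorem isLocalRing_quotient [IsLocalRing R] {I : Ideal R} (h : I ≠ ⊤) : IsLocalRing (R ⧸ I) :=
  haveI := Ideal.Quotient.nontrivial_iff.mpr h
  IsLocalRing.of_surjective' _ Ideal.Quotient.mk_surjective

theorem ne_top_of_le_maximalIdeal [IsLocalRing R] {I : Ideal R} (h : I ≤ maximalIdeal R) :
    I ≠ ⊤ := fun e => (maximalIdeal.isMaximal R).ne_top (top_le_iff.1 (e ▸ h))

theorem map_maximalIdeal_quotient [IsLocalRing R] (I : Ideal R) [IsLocalRing (R ⧸ I)] :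
    (maximalIdeal R).map (Ideal.Quotient.mk I) = maximalIdeal (R ⧸ I) :=
  map_maximalIdeal_of_surjective _ Ideal.Quotient.mk_surjective

theorem exists_natCast_eq_ringKrullDim [IsLocalRing R] [IsNoetherianRing R] :
    ∃ n : ℕ, ringKrullDim R = n := by
  have h1 := ringKrullDim_le_spanFinrank_maximalIdeal R
  have h2 := ringKrullDim_nonneg_of_nontrivial (R := R)
  obtain ⟨e, he⟩ : ∃ e : ℕ∞, ringKrullDim R = e :=
    ⟨_, (WithBot.coe_unbot (ringKrullDim R) (ne_bot_of_le_ne_bot (by simp) h2)).symm⟩
  rw [he] at h1 ⊢
  have : e ≤ ((maximalIdeal R).spanFinrank : ℕ∞) := by exact_mod_cast h1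
  obtain ⟨n, rfl⟩ := ENat.ne_top_iff_exists.1 (ne_top_of_le_ne_top (ENat.coe_ne_top _) this)
  exact ⟨n, rfl⟩

/-- Quotient of a regular local ring by part of a regular system of parameters. -/
theorem quotient_of_generators [IsRegularLocalRing R] (l₁ l₂ : List R)
    (hgen : Ideal.ofList (l₁ ++ l₂) = maximalIdeal R)
    (hlen : l₁.length + l₂.length ≤ (maximalIdeal R).spanFinrank) :
    IsRegularLocalRing (R ⧸ Ideal.ofList l₁) ∧
      ringKrullDim (R ⧸ Ideal.ofList l₁) = l₂.length := by
  set I := Ideal.ofList l₁
  have hI : I ≤ maximalIdeal R := by rw [← hgen, Ideal.ofList_append]; exact le_sup_left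
  haveI := isLocalRing_quotient (ne_top_of_le_maximalIdeal hI)
  obtain ⟨n, hn⟩ := exists_natCast_eq_ringKrullDim (R := R ⧸ I)
  have hup : (maximalIdeal (R ⧸ I)).spanFinrank ≤ l₂.length := by
    have : maximalIdeal (R ⧸ I) = Ideal.ofList (l₂.map (Ideal.Quotient.mk I)) := by
      rw [← map_maximalIdeal_quotient I, ← hgen, Ideal.ofList_append, Ideal.map_sup,
        Ideal.map_quotient_self, bot_sup_eq, Ideal.map_ofList]
    rw [this]
    exact le_trans (spanFinrank_ofList_le _) (by simp)
  have hlow := ringKrullDim_le_ringKrullDim_quotient_add_spanFinrank I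
    (hI.trans (IsLocalRing.ringJacobson_eq_maximalIdeal R).ge)
  rw [← IsRegularLocalRing.spanFinrank_maximalIdeal, hn] at hlow
  have hlow' : (maximalIdeal R).spanFinrank ≤ n + I.spanFinrank := by exact_mod_cast hlow
  have hI' : I.spanFinrank ≤ l₁.length := spanFinrank_ofList_le l₁
  have hn' : n ≤ (maximalIdeal (R ⧸ I)).spanFinrank := by
    have := ringKrullDim_le_spanFinrank_maximalIdeal (R ⧸ I)
    rw [hn] at this
    exact_mod_cast this
  constructor
  · refine (isRegularLocalRing_iff _).2 ?_
    rw [hn]
    exact_mod_cast (show (maximalIdeal (R ⧸ I)).spanFinrank = n by omega)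
  · rw [hn]
    exact_mod_cast (show n = l₂.length by omega)

/-- An element outside `m²` extends to a minimal system of generators of `m`. -/
theorem exists_generators_cons [IsLocalRing R] [IsNoetherianRing R] {x : R}
    (hx : x ∈ maximalIdeal R) (hx2 : x ∉ maximalIdeal R ^ 2) :
    ∃ l : List R, l.length + 1 = (maximalIdeal R).spanFinrank ∧
      Ideal.ofList (x :: l) = maximalIdeal R := by
  classical
  obtain ⟨l, hl, hspan⟩ := exists_list_of_fg (maximalIdeal R).fg_of_isNoetherianRing
  have key : ∀ l : List R, ∀ y ∈ Ideal.ofList l, y ∈ maximalIdeal R * Ideal.ofList l ∨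
      ∃ l₁ a l₂, l = l₁ ++ a :: l₂ ∧ Ideal.ofList (y :: (l₁ ++ l₂)) = Ideal.ofList l := by
    intro l
    induction l with
    | nil => intro y hy; left; simpa using hy
    | cons a l ih =>
      intro y hy
      rw [Ideal.ofList_cons, Submodule.mem_sup] at hy
      obtain ⟨b, hb, c, hc, rfl⟩ := hy
      obtain ⟨r, rfl⟩ := Ideal.mem_span_singleton'.1 hb
      by_cases hr : IsUnit r
      · refine Or.inr ⟨[], a, l, rfl, ?_⟩
        simp only [List.nil_append, Ideal.ofList_cons]
        apply le_antisymm
        · refine sup_le ((Ideal.span_singleton_le_iff_mem _).2 (add_mem ?_ ?_)) le_sup_right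
          · exact Ideal.mem_sup_left (Ideal.mul_mem_left _ _ (Ideal.mem_span_singleton_self a))
          · exact Ideal.mem_sup_right hc
        · refine sup_le ((Ideal.span_singleton_le_iff_mem _).2 ?_) le_sup_right
          rw [← Ideal.unit_mul_mem_iff_mem _ hr]
          exact (Ideal.add_mem_iff_left _ (Ideal.mem_sup_right hc)).1
            (Ideal.mem_sup_left (Ideal.mem_span_singleton_self _))
      · have hra : r * a ∈ maximalIdeal R * Ideal.ofList (a :: l) :=
          Ideal.mul_mem_mul hr (by rw [Ideal.ofList_cons]
                                   exact Ideal.mem_sup_left (Ideal.mem_span_singleton_self _))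
        rcases ih c hc with h | ⟨l₁, b, l₂, rfl, h⟩
        · refine Or.inl (add_mem hra (Ideal.mul_mono le_rfl ?_ h))
          rw [Ideal.ofList_cons]; exact le_sup_right
        · refine Or.inr ⟨a :: l₁, b, l₂, rfl, ?_⟩
          rw [List.cons_append, Ideal.ofList_cons, Ideal.ofList_cons, Ideal.ofList_cons, ← h,
            Ideal.ofList_cons]
          apply le_antisymm
          · refine sup_le ((Ideal.span_singleton_le_iff_mem _).2 (add_mem ?_ ?_)) ?_
            · exact Ideal.mem_sup_left (Ideal.mul_mem_left _ _ (Ideal.mem_span_singleton_self a))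
            · exact Ideal.mem_sup_right (Ideal.mem_sup_left (Ideal.mem_span_singleton_self c))
            · exact sup_le le_sup_left (le_sup_of_le_right le_sup_right)
          · refine sup_le (le_sup_of_le_right le_sup_left) (sup_le ?_ (le_sup_of_le_right le_sup_right))
            rw [Ideal.span_singleton_le_iff_mem]
            exact (Ideal.add_mem_iff_right _ (Ideal.mem_sup_right (Ideal.mem_sup_left
              (Ideal.mul_mem_left _ r (Ideal.mem_span_singleton_self a))))).1
              (Ideal.mem_sup_left (Ideal.mem_span_singleton_self _))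
  rcases key l x (hspan.symm ▸ hx) with h | ⟨l₁, a, l₂, rfl, h⟩
  · exact absurd (by rw [pow_two]; exact hspan ▸ h) hx2
  · refine ⟨l₁ ++ l₂, ?_, h.trans hspan⟩
    rw [← hl]; simp; omega

/-- The quotient of a regular local ring by an element of `m \ m²`. -/
theorem quotient_singleton [IsRegularLocalRing R] {x : R}
    (hx : x ∈ maximalIdeal R) (hx2 : x ∉ maximalIdeal R ^ 2) :
    IsRegularLocalRing (R ⧸ Ideal.span {x}) ∧
      ringKrullDim (R ⧸ Ideal.span {x}) + 1 = ringKrullDim R := by
  obtain ⟨l, hl, hgen⟩ := exists_generators_cons hx hx2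
  have := quotient_of_generators [x] l hgen (by simpa [add_comm] using hl.le)
  rw [Ideal.ofList_singleton] at this
  refine ⟨this.1, ?_⟩
  rw [this.2, ← IsRegularLocalRing.spanFinrank_maximalIdeal (R := R), ← hl]
  rfl

theorem isDomain_aux (d : ℕ) : ∀ (R : Type u) [CommRing R] [IsRegularLocalRing R],
    (maximalIdeal R).spanFinrank = d → IsDomain R := by
  induction d using Nat.strong_induction_on with
  | _ d ih =>
    intro R _ _ hd
    classical
    by_cases hbot : maximalIdeal R = ⊥
    · exact (isField_iff_maximalIdeal_eq.2 hbot).isDomain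
    have hsq : ¬ maximalIdeal R ≤ maximalIdeal R ^ 2 := by
      intro h
      refine hbot (Submodule.eq_bot_of_le_smul_of_le_jacobson_bot (maximalIdeal R) _
        (maximalIdeal R).fg_of_isNoetherianRing ?_ (maximalIdeal_le_jacobson ⊥))
      rwa [smul_eq_mul, ← pow_two]
    have hfin : (minimalPrimes R).Finite := minimalPrimes.finite_of_isNoetherianRing R
    have hav : ¬ ((maximalIdeal R : Set R) ⊆
        ⋃ i ∈ (↑(insert (maximalIdeal R ^ 2) hfin.toFinset) : Set (Ideal R)), (i : Set R)) := by
      rw [Ideal.subset_union_prime (f := fun i : Ideal R => i) (maximalIdeal R ^ 2)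
        (maximalIdeal R ^ 2)]
      · rintro ⟨q, hq, hle⟩
        rcases Finset.mem_insert.1 hq with rfl | hq
        · exact hsq hle
        · rw [Set.Finite.mem_toFinset] at hq
          have hqp : q.IsPrime := hq.1.1
          have : q = maximalIdeal R := le_antisymm (le_maximalIdeal hqp.ne_top) hle
          subst this
          have h0 : (maximalIdeal R).height = 0 := by
            exact Ideal.height_eq_zero_iff.2 hq
          have := IsLocalRing.maximalIdeal_height_eq_ringKrullDim (R := R)
          rw [h0, ← IsRegularLocalRing.spanFinrank_maximalIdeal] at this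
          have h00 : (maximalIdeal R).spanFinrank = 0 := by exact_mod_cast this.symm
          exact hbot ((Submodule.spanFinrank_eq_zero_iff_eq_bot
            (maximalIdeal R).fg_of_isNoetherianRing).1 h00)
      · intro i hi h1 _
        exact ((Set.Finite.mem_toFinset _).1 ((Finset.mem_insert.1 hi).resolve_left h1)).1.1
    obtain ⟨x, hx, hxu⟩ := Set.not_subset.1 hav
    simp only [Finset.coe_insert, Set.Finite.coe_toFinset, Set.biUnion_insert, Set.mem_union,
      Set.mem_iUnion, not_or, not_exists] at hxu
    obtain ⟨l, hl, hgen⟩ := exists_generators_cons hx hxu.1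
    obtain ⟨hreg, hdim⟩ := quotient_of_generators [x] l hgen (by simpa [add_comm] using hl.le)
    rw [Ideal.ofList_singleton] at hreg hdim
    haveI := hreg
    have hd' : (maximalIdeal (R ⧸ Ideal.span {x})).spanFinrank = l.length := by
      have := IsRegularLocalRing.spanFinrank_maximalIdeal (R := R ⧸ Ideal.span {x})
      rw [hdim] at this
      exact_mod_cast this
    haveI := ih l.length (by omega) (R ⧸ Ideal.span {x}) hd'
    haveI hP : (Ideal.span {x}).IsPrime := (Ideal.Quotient.isDomain_iff_prime _).1 inferInstance
    obtain ⟨q, hq, hqle⟩ := Ideal.exists_minimalPrimes_le (bot_le : (⊥ : Ideal R) ≤ Ideal.span {x})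
    have hxq : x ∉ q := hxu.2 q hq
    have hq0 : q = ⊥ := by
      refine Submodule.eq_bot_of_le_smul_of_le_jacobson_bot (maximalIdeal R) _
        q.fg_of_isNoetherianRing ?_ (maximalIdeal_le_jacobson ⊥)
      intro y hy
      obtain ⟨r, rfl⟩ := Ideal.mem_span_singleton'.1 (hqle hy)
      rw [smul_eq_mul, mul_comm r]
      exact Ideal.mul_mem_mul hx ((hq.1.1.mem_or_mem hy).resolve_right hxq)
    haveI : (⊥ : Ideal R).IsPrime := hq0 ▸ hq.1.1
    exact IsDomain.of_bot_isPrime R

theorem isDomain [IsRegularLocalRing R] : IsDomain R := isDomain_aux _ R rfl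

/-- A minimal system of generators of the maximal ideal of a regular local ring is regular. -/
theorem isRegular_of_generators [IsRegularLocalRing R] (l : List R)
    (hgen : Ideal.ofList l = maximalIdeal R) (hlen : l.length ≤ (maximalIdeal R).spanFinrank) :
    RingTheory.Sequence.IsRegular R l := by
  refine ⟨⟨fun i hi => ?_⟩, ?_⟩
  · have hsplit : l.take i ++ l.drop i = l := List.take_append_drop i l
    obtain ⟨hreg, hdim⟩ := quotient_of_generators (l.take i) (l.drop i) (by rw [hsplit]; exact hgen)
      (by rw [← List.length_append, hsplit]; exact hlen)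
    haveI := hreg
    haveI : IsDomain (R ⧸ Ideal.ofList (l.take i)) := isDomain
    have hnot : l[i] ∉ Ideal.ofList (l.take i) := by
      intro hmem
      have hcons : l.drop i = l[i] :: l.drop (i + 1) := List.drop_eq_getElem_cons hi
      have : maximalIdeal R = Ideal.ofList (l.take i ++ l.drop (i + 1)) := by
        rw [← hgen]
        conv_lhs => rw [← hsplit, hcons]
        simp only [Ideal.ofList_append, Ideal.ofList_cons]
        refine le_antisymm (sup_le le_sup_left (sup_le ?_ le_sup_right))
          (sup_le le_sup_left (le_sup_of_le_right le_sup_right))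
        exact ((Ideal.span_singleton_le_iff_mem _).2 hmem).trans le_sup_left
      have h2 := spanFinrank_ofList_le (l.take i ++ l.drop (i + 1))
      rw [← this] at h2
      simp at h2
      omega
    intro a b hab
    obtain ⟨a, rfl⟩ := Submodule.Quotient.mk_surjective _ a
    obtain ⟨b, rfl⟩ := Submodule.Quotient.mk_surjective _ b
    simp only [← Submodule.Quotient.mk_smul, Submodule.Quotient.eq] at hab ⊢
    rw [Ideal.smul_eq_mul, Ideal.mul_top] at hab ⊢
    rw [← smul_sub, smul_eq_mul] at hab
    haveI : (Ideal.ofList (l.take i)).IsPrime := (Ideal.Quotient.isDomain_iff_prime _).1 inferInstance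
    exact (Ideal.IsPrime.mem_or_mem ‹_› hab).resolve_left hnot
  · rw [Ideal.smul_eq_mul, Ideal.mul_top, hgen]
    exact (maximalIdeal.isMaximal R).ne_top.symm

/-- Regularity lifts along a nonzerodivisor. -/
theorem of_quotient_singleton [IsLocalRing R] [IsNoetherianRing R] {x : R}
    (hx : x ∈ maximalIdeal R) (hreg : x ∈ nonZeroDivisors R)
    [IsRegularLocalRing (R ⧸ Ideal.span {x})] : IsRegularLocalRing R := by
  classical
  obtain ⟨l, hl, hspan⟩ := exists_list_of_fg (maximalIdeal (R ⧸ Ideal.span {x})).fg_of_isNoetherianRing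
  obtain ⟨l', rfl⟩ : ∃ l' : List R, l'.map (Ideal.Quotient.mk (Ideal.span {x})) = l :=
    List.map_surjective_iff.2 Ideal.Quotient.mk_surjective l
  have hgen : Ideal.ofList (x :: l') = maximalIdeal R := by
    rw [← Ideal.map_ofList, ← map_maximalIdeal_quotient] at hspan
    have := congrArg (Ideal.comap (Ideal.Quotient.mk (Ideal.span {x}))) hspan
    simp only [Ideal.comap_map_of_surjective' _ Ideal.Quotient.mk_surjective, Ideal.mk_ker] at this
    rw [Ideal.ofList_cons, sup_comm, this, sup_eq_left, Ideal.span_singleton_le_iff_mem]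
    exact hx
  refine IsRegularLocalRing.of_spanFinrank_maximalIdeal_le R ?_
  rw [← ringKrullDim_quotient_span_singleton_succ_eq_ringKrullDim_of_mem_nonZeroDivisors hreg hx,
    ← IsRegularLocalRing.spanFinrank_maximalIdeal]
  rw [List.length_map] at hl
  have h2 := spanFinrank_ofList_le (x :: l')
  rw [hgen, List.length_cons, hl] at h2
  exact_mod_cast h2

theorem exists_generators_of_quotient_aux (n : ℕ) : ∀ (R : Type u) [CommRing R]
    [IsRegularLocalRing R] (I : Ideal R) [IsRegularLocalRing (R ⧸ I)],
    (maximalIdeal R).spanFinrank = n →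
    ∃ l₁ l₂ : List R, l₁.length + l₂.length = n ∧
      Ideal.ofList (l₁ ++ l₂) = maximalIdeal R ∧ I = Ideal.ofList l₁ := by
  induction n using Nat.strong_induction_on with
  | _ n ih =>
    intro R _ _ I _ hn
    classical
    have hIm : I ≤ maximalIdeal R := le_maximalIdeal (Ideal.Quotient.nontrivial_iff.1 inferInstance)
    by_cases hI2 : I ≤ maximalIdeal R ^ 2
    · obtain ⟨l, hl, hspan⟩ := exists_list_of_fg (maximalIdeal R).fg_of_isNoetherianRing
      obtain ⟨lb, hlb, hspanb⟩ := exists_list_of_fg (maximalIdeal (R ⧸ I)).fg_of_isNoetherianRing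
      obtain ⟨l', rfl⟩ : ∃ l' : List R, l'.map (Ideal.Quotient.mk I) = lb :=
        List.map_surjective_iff.2 Ideal.Quotient.mk_surjective lb
      have hle : maximalIdeal R ≤ Ideal.ofList l' := by
        refine Submodule.le_of_le_smul_of_le_jacobson_bot (maximalIdeal R).fg_of_isNoetherianRing
          (maximalIdeal_le_jacobson ⊥) ?_
        rw [← Ideal.map_ofList, ← map_maximalIdeal_quotient] at hspanb
        have := congrArg (Ideal.comap (Ideal.Quotient.mk I)) hspanb
        simp only [Ideal.comap_map_of_surjective' _ Ideal.Quotient.mk_surjective, Ideal.mk_ker] at this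
        rw [smul_eq_mul, ← pow_two]
        exact le_sup_left.trans (this.symm.le.trans (sup_le_sup_left hI2 _))
      have hdim : (maximalIdeal R).spanFinrank ≤ (maximalIdeal (R ⧸ I)).spanFinrank := by
        rw [← hlb, List.length_map]
        refine le_trans ?_ (spanFinrank_ofList_le l')
        refine le_of_eq (congrArg _ (le_antisymm hle ?_))
        rw [← Ideal.map_ofList, ← map_maximalIdeal_quotient] at hspanb
        have := congrArg (Ideal.comap (Ideal.Quotient.mk I)) hspanb
        simp only [Ideal.comap_map_of_surjective' _ Ideal.Quotient.mk_surjective, Ideal.mk_ker] at this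
        exact le_sup_left.trans (this.le.trans (sup_le le_rfl hIm))
      have hI0 : I = ⊥ := by
        haveI : IsDomain R := isDomain
        by_contra hne
        obtain ⟨y, hy, hy0⟩ := Submodule.exists_mem_ne_zero_of_ne_bot hne
        have h1 := ringKrullDim_le_of_surjective (Ideal.Quotient.factor
          ((Ideal.span_singleton_le_iff_mem I).2 hy)) (Ideal.Quotient.factor_surjective _)
        have h2 := ringKrullDim_quotient_span_singleton_succ_eq_ringKrullDim_of_mem_nonZeroDivisors
          (mem_nonZeroDivisors_of_ne_zero hy0) (hIm hy)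
        obtain ⟨a, ha⟩ := exists_natCast_eq_ringKrullDim (R := R ⧸ I)
        haveI := isLocalRing_quotient (ne_top_of_le_maximalIdeal
          ((Ideal.span_singleton_le_iff_mem _).2 (hIm hy)))
        obtain ⟨b, hb⟩ := exists_natCast_eq_ringKrullDim (R := R ⧸ Ideal.span {y})
        rw [ha, hb] at h1
        rw [hb, ← IsRegularLocalRing.spanFinrank_maximalIdeal (R := R)] at h2
        rw [← IsRegularLocalRing.spanFinrank_maximalIdeal (R := R ⧸ I)] at ha
        have ha' : (maximalIdeal (R ⧸ I)).spanFinrank = a := by exact_mod_cast ha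
        have h2' : b + 1 = (maximalIdeal R).spanFinrank := by exact_mod_cast h2
        have h1' : a ≤ b := by exact_mod_cast h1
        omega
      exact ⟨[], l, by simpa [← hn] using hl, by simpa using hspan, by simp [hI0]⟩
    · obtain ⟨x, hxI, hx2⟩ := SetLike.not_le_iff_exists.1 hI2
      have hle : Ideal.span {x} ≤ I := (Ideal.span_singleton_le_iff_mem I).2 hxI
      obtain ⟨hreg, hdim⟩ := quotient_singleton (hIm hxI) hx2
      haveI := hreg
      haveI : IsRegularLocalRing ((R ⧸ Ideal.span {x}) ⧸ I.map (Ideal.Quotient.mk (Ideal.span {x}))) :=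
        IsRegularLocalRing.of_ringEquiv (R := R ⧸ I) (DoubleQuot.quotQuotEquivQuotOfLE hle).symm
      rw [← IsRegularLocalRing.spanFinrank_maximalIdeal (R := R),
        ← IsRegularLocalRing.spanFinrank_maximalIdeal] at hdim
      have hdim' : (maximalIdeal (R ⧸ Ideal.span {x})).spanFinrank + 1 = n := by
        rw [← hn]; exact_mod_cast hdim
      obtain ⟨m₁, m₂, hlen, hgen, hI⟩ := ih _ (by omega) (R ⧸ Ideal.span {x})
        (I.map (Ideal.Quotient.mk (Ideal.span {x}))) rfl
      obtain ⟨l₁, rfl⟩ : ∃ l' : List R, l'.map (Ideal.Quotient.mk (Ideal.span {x})) = m₁ :=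
        List.map_surjective_iff.2 Ideal.Quotient.mk_surjective m₁
      obtain ⟨l₂, rfl⟩ : ∃ l' : List R, l'.map (Ideal.Quotient.mk (Ideal.span {x})) = m₂ :=
        List.map_surjective_iff.2 Ideal.Quotient.mk_surjective m₂
      simp only [List.length_map] at hlen
      refine ⟨x :: l₁, l₂, by simp; omega, ?_, ?_⟩
      · rw [← List.map_append, ← Ideal.map_ofList, ← map_maximalIdeal_quotient] at hgen
        have := congrArg (Ideal.comap (Ideal.Quotient.mk (Ideal.span {x}))) hgen
        simp only [Ideal.comap_map_of_surjective' _ Ideal.Quotient.mk_surjective, Ideal.mk_ker] at this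
        rw [List.cons_append, Ideal.ofList_cons, sup_comm, this, sup_eq_left]
        exact hle.trans hIm
      · rw [← Ideal.map_ofList] at hI
        have := congrArg (Ideal.comap (Ideal.Quotient.mk (Ideal.span {x}))) hI
        simp only [Ideal.comap_map_of_surjective' _ Ideal.Quotient.mk_surjective, Ideal.mk_ker] at this
        rw [sup_eq_left.2 hle] at this
        rw [this, Ideal.ofList_cons, sup_comm]

end Groth.Agent.RegularLocal.Basic
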