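import Groth.Agent.RegularLocal.GlobalDim
import Mathlib.RingTheory.DiscreteValuationRing.TFAE
import Mathlib.RingTheory.IntegralClosure.IntegrallyClosed
import Mathlib.RingTheory.Localization.LocalizationLocalization
import Mathlib.Tactic.LinearCombination

/-!
Regular local rings are integrally closed.
-/

set_option autoImplicit false
universe u

open IsLocalRing

namespace Groth.Agent.RegularLocal.Normal

/-- In a regular local ring with non-principal maximal ideal, `m * c ⊆ (a)` forces `c ∈ (a)`. -/
theorem dvd_of_forall_dvd {R : Type u} [CommRing R] [IsRegularLocalRing R]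
    (hnp : ¬ (maximalIdeal R).IsPrincipal) {a c : R} (ha : a ≠ 0)
    (h : ∀ r ∈ maximalIdeal R, a ∣ r * c) : a ∣ c := by
  have := Groth.Agent.RegularLocal.Basic.isDomain (R := R)
  obtain ⟨x, hx, hx2⟩ : ∃ x ∈ maximalIdeal R, x ∉ maximalIdeal R ^ 2 := by
    by_contra hcon
    push Not at hcon
    have hbot : maximalIdeal R = ⊥ := by
      refine Submodule.eq_bot_of_le_smul_of_le_jacobson_bot (maximalIdeal R) _
        (IsNoetherian.noetherian _) ?_ ?_
      · intro z hz
        rw [smul_eq_mul, ← pow_two]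
        exact hcon z hz
      · exact maximalIdeal_le_jacobson _
    exact hnp (hbot ▸ bot_isPrincipal)
  obtain ⟨hreg, -⟩ := Groth.Agent.RegularLocal.Basic.quotient_singleton hx hx2
  have : IsDomain (R ⧸ Ideal.span {x}) := Groth.Agent.RegularLocal.Basic.isDomain
  have hp : (Ideal.span {x}).IsPrime := (Ideal.Quotient.isDomain_iff_prime _).1 inferInstance
  obtain ⟨y, hy, hy2⟩ : ∃ y ∈ maximalIdeal R, y ∉ Ideal.span {x} := by
    by_contra hcon
    push Not at hcon
    exact hnp ⟨x, le_antisymm hcon ((Ideal.span_singleton_le_iff_mem _).2 hx)⟩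
  obtain ⟨u, hu⟩ := h x hx
  obtain ⟨v, hv⟩ := h y hy
  have hxy : x * v = y * u := mul_left_cancel₀ ha (by linear_combination y * hu - x * hv)
  obtain ⟨w, rfl⟩ : x ∣ u := Ideal.mem_span_singleton.1
    ((hp.mem_or_mem (hxy ▸ Ideal.mul_mem_right v _ (Ideal.mem_span_singleton_self x))).resolve_left hy2)
  have hx0 : x ≠ 0 := fun h0 => hx2 (h0 ▸ zero_mem _)
  exact ⟨w, mul_left_cancel₀ hx0 (by linear_combination hu)⟩

/-- A regular local ring is integrally closed. -/
theorem isIntegrallyClosed {A : Type u} [CommRing A] [IsRegularLocalRing A] :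
    IsIntegrallyClosed A := by
  classical
  have := Groth.Agent.RegularLocal.Basic.isDomain (R := A)
  let K := FractionRing A
  rw [isIntegrallyClosed_iff K]
  intro z hz
  obtain ⟨b, a, ha, rfl⟩ := IsFractionRing.div_surjective (A := A) z
  have ha0 : a ≠ 0 := nonZeroDivisors.ne_zero ha
  by_cases hab : a ∣ b
  · obtain ⟨q, rfl⟩ := hab
    refine ⟨q, ?_⟩
    rw [map_mul, mul_div_cancel_left₀]
    exact IsFractionRing.to_map_ne_zero_of_mem_nonZeroDivisors ha
  exfalso
  -- the colon ideals
  let J : A → Ideal A := fun c => Submodule.comap (LinearMap.toSpanSingleton A A c) (Ideal.span {a})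
  have hJ : ∀ c r, r ∈ J c ↔ a ∣ r * c := fun c r => Ideal.mem_span_singleton
  obtain ⟨_, ⟨r₀, hr₀, rfl⟩, hmax⟩ := set_has_maximal_iff_noetherian.2
    (inferInstance : IsNoetherian A A)
    {I : Ideal A | ∃ r, ¬ a ∣ r * b ∧ I = J (r * b)} ⟨J (1 * b), 1, by rwa [one_mul], rfl⟩
  set c := r₀ * b with hc
  let p := J c
  have hp : p.IsPrime := by
    refine ⟨fun htop => hr₀ ?_, fun {s t} hst => ?_⟩
    · have h1 : (1 : A) ∈ p := by rw [htop]; trivial
      have h2 := (hJ c 1).1 h1
      rwa [one_mul] at h2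
    · by_contra hcon
      push Not at hcon
      have ht : ¬ a ∣ t * c := fun h => hcon.2 ((hJ c t).2 h)
      have hle : J c ≤ J (t * c) := fun z hz => (hJ _ _).2 (by
        rw [mul_left_comm]; exact Dvd.dvd.mul_left ((hJ c z).1 hz) t)
      have hlt : J c < J (t * c) := lt_of_le_of_ne hle fun he => hcon.1 (by
        show s ∈ J c
        rw [he, hJ, ← mul_assoc]
        exact (hJ c (s * t)).1 hst)
      exact hmax _ ⟨t * r₀, by rwa [mul_assoc], by rw [hc, mul_assoc]⟩ hlt
  have hzc : IsIntegral A (algebraMap A K c / algebraMap A K a) := by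
    rw [hc, map_mul, mul_div_assoc]
    exact (isIntegral_algebraMap).mul hz
  let Ap := Localization.AtPrime p
  have : IsRegularLocalRing Ap :=
    Groth.Agent.RegularLocal.GlobalDim.isRegularLocalRing_localization p
  have : IsDomain Ap := Groth.Agent.RegularLocal.Basic.isDomain
  have hna : ¬ algebraMap A Ap a ∣ algebraMap A Ap c := by
    rintro ⟨q, hq⟩
    obtain ⟨n, s, rfl⟩ := IsLocalization.exists_mk'_eq p.primeCompl q
    rw [IsLocalization.mul_mk'_eq_mk'_of_mul, eq_comm, IsLocalization.mk'_eq_iff_eq_mul,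
      ← map_mul, ] at hq
    have hinj : Function.Injective (algebraMap A Ap) :=
      IsLocalization.injective Ap p.primeCompl_le_nonZeroDivisors
    exact s.2 ((hJ c s).2 ⟨n, by rw [mul_comm]; exact (hinj hq).symm⟩)
  by_cases hnp : (maximalIdeal Ap).IsPrincipal
  · have h45 : IsPrincipalIdealRing Ap :=
      ((tfae_of_isNoetherianRing_of_isLocalRing_of_isDomain Ap).out 4 0).1 hnp
    have : IsIntegrallyClosed Ap := inferInstance
    let _ : Algebra Ap K := IsLocalization.localizationAlgebraOfSubmonoidLe Ap K p.primeCompl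
      (nonZeroDivisors A) p.primeCompl_le_nonZeroDivisors
    have : IsScalarTower A Ap K := IsLocalization.localization_isScalarTower_of_submonoid_le Ap K
      p.primeCompl (nonZeroDivisors A) p.primeCompl_le_nonZeroDivisors
    have : IsFractionRing Ap K :=
      IsFractionRing.isFractionRing_of_isDomain_of_isLocalization p.primeCompl Ap K
    obtain ⟨q, hq⟩ := IsIntegrallyClosed.isIntegral_iff.1 (hzc.tower_top (A := Ap))
    refine hna ⟨q, IsFractionRing.injective Ap K ?_⟩
    rw [map_mul (algebraMap Ap K) (algebraMap A Ap a) q, hq, ← IsScalarTower.algebraMap_apply, ← IsScalarTower.algebraMap_apply, mul_div_cancel₀]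
    exact IsFractionRing.to_map_ne_zero_of_mem_nonZeroDivisors ha
  · refine hna (dvd_of_forall_dvd hnp ?_ fun r hr => ?_)
    · exact fun h0 => ha0 (IsLocalization.injective Ap p.primeCompl_le_nonZeroDivisors (by rw [h0, map_zero]))
    · rw [← Localization.AtPrime.map_eq_maximalIdeal] at hr
      obtain ⟨⟨⟨r', hr'⟩, s⟩, hrs⟩ := (IsLocalization.mem_map_algebraMap_iff p.primeCompl Ap).1 hr
      have hu : IsUnit (algebraMap A Ap (s : A)) := IsLocalization.map_units Ap s
      refine (hu.dvd_mul_left).1 ?_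
      rw [← mul_assoc, mul_comm (algebraMap A Ap (s : A)) r, hrs, ← map_mul]
      exact map_dvd _ ((hJ c r').1 hr')

end Groth.Agent.RegularLocal.Normal
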